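import Groth.Prelude.Def_CAlgX
import Groth.Agent.Lib.JacLocus.Basic
import Mathlib.RingTheory.Filtration
import Mathlib.RingTheory.MvPolynomial.Homogeneous
import Mathlib.RingTheory.Smooth.Locus
import Mathlib.RingTheory.Adjoin.FG
import Mathlib.RingTheory.FiniteType
import Mathlib.RingTheory.FinitePresentation
import Mathlib.RingTheory.Localization.Away.Basic

/-!
# An algebra with a quasi-regular section is smooth along the section
-/

set_option autoImplicit false
set_option linter.all false
set_option backward.isDefEq.respectTransparency false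
universe u

open MvPolynomial

noncomputable section

namespace GrothLib.SecQReg10

variable {A B : Type u} [CommRing A] [CommRing B] [Algebra A B]

/-- A homogeneous form with coefficients in `V`, evaluated in `V`, lands in the next power. -/
theorem eval_mem_pow_succ {R : Type*} [CommRing R] {n : ℕ} (V : Ideal R) (v : Fin n → R) (hv : ∀ i, v i ∈ V)
    (k : ℕ) (P : MvPolynomial (Fin n) R) (hP : P.IsHomogeneous k) (hc : ∀ d, P.coeff d ∈ V) :
    eval v P ∈ V ^ (k + 1) := by
  rw [eval_eq]
  refine Ideal.sum_mem _ fun d hd => ?_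
  rw [pow_succ']
  refine Ideal.mul_mem_mul (hc d) ?_
  have h1 : d.degree = k := by
    have := hP (mem_support_iff.1 hd)
    simpa [Finsupp.degree_eq_weight_one, Pi.one_def] using this
  rw [← h1, Finsupp.degree_apply, ← Finset.prod_pow_eq_pow_sum]
  exact Ideal.prod_mem_prod fun i _ => Ideal.pow_mem_pow (hv i) _

/-- An element killed by the map to `B` lies in all powers of the ideal of the coordinates. -/
theorem mem_pow_of_map_eq_zero {Q A₀ : Type*} [CommRing Q] [CommRing A₀] {n : ℕ} (Ψ : Q →+* B) (ε : Q →+* A₀)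
    (c : A₀ →+* Q) (v : Fin n → Q) (t : Fin n → B) (ι : A₀ →+* A) (hι : Function.Injective ι)
    (σ : B →ₐ[A] A) (ht : CAlgX.IsQuasiRegular t) (hσ : ∀ i, σ (t i) = 0) (hΨv : ∀ l, Ψ (v l) = t l)
    (hΨc : ∀ a, Ψ (c a) = algebraMap A B (ι a)) (hsub : ∀ y, y - c (ε y) ∈ Ideal.span (Set.range v))
    (y : Q) (hy : Ψ y = 0) (k : ℕ) : y ∈ Ideal.span (Set.range v) ^ k := by
  induction k with
  | zero => rw [pow_zero, Ideal.one_eq_top]; exact Submodule.mem_top
  | succ k ih =>
    obtain ⟨P, hP, hPy⟩ := (Ideal.mem_span_pow_iff_exists_isHomogeneous v y).1 ih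
    have hdiff : eval v (P - map c (map ε P)) ∈ Ideal.span (Set.range v) ^ (k + 1) := by
      refine eval_mem_pow_succ _ v (fun i => Ideal.subset_span (Set.mem_range_self i)) k _
        (hP.sub ((hP.map ε).map c)) fun d => ?_
      rw [coeff_sub, coeff_map, coeff_map]
      exact hsub (P.coeff d)
    have hV : (Ideal.span (Set.range v)).map Ψ = Ideal.span (Set.range t) := by
      rw [Ideal.map_span]; congr 1
      ext b; simp only [Set.mem_image, Set.mem_range, exists_exists_eq_and, hΨv]
    have hR : eval t (map ((algebraMap A B).comp ι) (map ε P)) ∈ Ideal.span (Set.range t) ^ (k + 1) := by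
      have h1 := Ideal.mem_map_of_mem Ψ hdiff
      rw [Ideal.map_pow, hV, map_sub, map_sub, hPy, hy, zero_sub, neg_mem_iff] at h1
      convert h1 using 1
      generalize map ε P = R
      induction R using MvPolynomial.induction_on with
      | C a => simp [hΨc]
      | add p q hp hq => simp [hp, hq]
      | mul_X p i hp => simp [hp, hΨv]
    have hR0 : map ε P = 0 := by
      ext d
      rw [coeff_zero]
      have h2 := ht k _ ((hP.map ε).map _) hR d
      rw [coeff_map, RingHom.comp_apply] at h2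
      have h3 : σ (algebraMap A B (ι ((map ε P).coeff d))) = 0 :=
        (Ideal.span_le (I := RingHom.ker σ.toRingHom)).2 (by rintro _ ⟨i, rfl⟩; exact hσ i) h2
      rw [AlgHom.commutes, Algebra.algebraMap_self_apply] at h3
      exact hι (h3.trans (map_zero ι).symm)
    rw [hR0, map_zero, sub_zero, hPy] at hdiff
    exact hdiff

/-- Krull's intersection theorem. -/
theorem exists_mul_eq_self {Q : Type*} [CommRing Q] [IsNoetherianRing Q] (V : Ideal Q) (y : Q)
    (h : ∀ k, y ∈ V ^ k) : ∃ r ∈ V, r * y = y := by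
  have hmem : y ∈ (⨅ i : ℕ, V ^ i • ⊤ : Submodule Q Q) := by
    simp only [Submodule.mem_iInf]
    intro i
    rw [smul_eq_mul, Ideal.mul_top]
    exact h i
  obtain ⟨⟨r, hr⟩, hry⟩ := (Ideal.mem_iInf_smul_pow_eq_bot_iff _ y).1 hmem
  exact ⟨r, hr, hry⟩

/-- Killing, near the section, an element of the kernel of a presentation adapted to the section. -/
theorem exists_killing {n m : ℕ} (σ : B →ₐ[A] A) (t : Fin n → B) (x : Fin m → B)
    (ht : CAlgX.IsQuasiRegular t) (hσ : ∀ i, σ (t i) = 0)
    (C' : Fin m → Fin n → MvPolynomial (Fin (n + m)) A)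
    (hf : ∀ j, aeval (Fin.append t x) (X (Fin.natAdd n j) - ∑ l, C' j l * X (Fin.castAdd m l)) = 0)
    (G : MvPolynomial (Fin (n + m)) A) (hG : aeval (Fin.append t x) G = 0) :
    ∃ h : MvPolynomial (Fin (n + m)) A, constantCoeff h = 1 ∧
      h * G ∈ Ideal.span (Set.range fun j => X (Fin.natAdd n j) - ∑ l, C' j l * X (Fin.castAdd m l)) := by
  classical
  let S : Finset A := G.coeffs ∪ Finset.univ.biUnion fun jl : Fin m × Fin n => (C' jl.1 jl.2).coeffs
  let A₀ := Algebra.adjoin ℤ (S : Set A)
  haveI : Algebra.FiniteType ℤ A₀ := (Subalgebra.fg_iff_finiteType _).1 (Subalgebra.fg_adjoin_finset S)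
  haveI : IsNoetherianRing A₀ := Algebra.FiniteType.isNoetherianRing ℤ A₀
  let ι : A₀ →+* A := A₀.val.toRingHom
  have hι : Function.Injective ι := Subtype.val_injective
  have hlift : ∀ P : MvPolynomial (Fin (n + m)) A, (↑P.coeffs : Set A) ⊆ S → ∃ P₀, map ι P₀ = P := by
    intro P hP
    exact (mem_range_map_iff_coeffs_subset (f := ι)).2 fun a ha => ⟨⟨a, Algebra.subset_adjoin (hP ha)⟩, rfl⟩
  obtain ⟨G₀, hG₀⟩ := hlift G fun a ha => Finset.mem_union_left _ ha
  choose C₀ hC₀ using fun j l => hlift (C' j l) fun a ha =>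
    Finset.mem_union_right _ (Finset.mem_biUnion.2 ⟨(j, l), Finset.mem_univ _, ha⟩)
  let f₀ : Fin m → MvPolynomial (Fin (n + m)) A₀ :=
    fun j => X (Fin.natAdd n j) - ∑ l, C₀ j l * X (Fin.castAdd m l)
  have hf₀ : ∀ j, map ι (f₀ j) = X (Fin.natAdd n j) - ∑ l, C' j l * X (Fin.castAdd m l) := by
    intro j; simp [f₀, map_sum, hC₀]
  let J₀ : Ideal (MvPolynomial (Fin (n + m)) A₀) := Ideal.span (Set.range f₀)
  let π := Ideal.Quotient.mk J₀
  let Q₀ := MvPolynomial (Fin (n + m)) A₀ ⧸ J₀
  let v : Fin n → Q₀ := fun l => π (X (Fin.castAdd m l))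
  let V : Ideal Q₀ := Ideal.span (Set.range v)
  let Ψ' : MvPolynomial (Fin (n + m)) A₀ →+* B := (aeval (Fin.append t x)).toRingHom.comp (map ι)
  let Ψ : Q₀ →+* B := Ideal.Quotient.lift J₀ Ψ' (fun a ha => (Ideal.span_le (I := RingHom.ker Ψ')).2 (by
    rintro _ ⟨j, rfl⟩
    show aeval (Fin.append t x) (map ι (f₀ j)) = 0
    rw [hf₀]; exact hf j) ha)
  let ε : Q₀ →+* A₀ := Ideal.Quotient.lift J₀ constantCoeff (fun a ha => (Ideal.span_le (I := RingHom.ker constantCoeff)).2 (by
    rintro _ ⟨j, rfl⟩
    show constantCoeff (f₀ j) = 0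
    simp [f₀, map_sum]) ha)
  let c : A₀ →+* Q₀ := π.comp MvPolynomial.C
  have hX : ∀ i, π (X i) ∈ V := by
    intro i
    induction i using Fin.addCases with
    | left l => exact Ideal.subset_span ⟨l, rfl⟩
    | right j =>
      have h0 : π (f₀ j) = 0 := Ideal.Quotient.eq_zero_iff_mem.2 (Ideal.subset_span ⟨j, rfl⟩)
      simp only [f₀, map_sub, map_sum, map_mul, sub_eq_zero] at h0
      rw [h0]
      exact Ideal.sum_mem _ fun l _ => Ideal.mul_mem_left _ _ (Ideal.subset_span ⟨l, rfl⟩)
  have hsub : ∀ y, y - c (ε y) ∈ V := by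
    intro y
    obtain ⟨P, rfl⟩ := Ideal.Quotient.mk_surjective y
    show π P - π (MvPolynomial.C (constantCoeff P)) ∈ V
    induction P using MvPolynomial.induction_on with
    | C a => simp
    | add P P' h h' =>
      have := add_mem h h'
      simp only [map_add] at this ⊢
      convert this using 1; ring
    | mul_X P i _ => simpa using V.mul_mem_left (π P) (hX i)
  have hΨmk : ∀ P, Ψ (π P) = aeval (Fin.append t x) (map ι P) := fun P => rfl
  have hεmk : ∀ P, ε (π P) = constantCoeff P := fun P => rfl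
  have hεv : ∀ l, ε (v l) = 0 := fun l => (hεmk _).trans (constantCoeff_X _ _)
  have hΨv : ∀ l, Ψ (v l) = t l := fun l => by
    refine (hΨmk _).trans ?_
    rw [map_X, aeval_X, Fin.append_left]
  have hΨc : ∀ a, Ψ (c a) = algebraMap A B (ι a) := fun a => by
    refine (hΨmk _).trans ?_
    rw [map_C, aeval_C]
  have key : ∀ y : Q₀, Ψ y = 0 → ∀ k, y ∈ V ^ k :=
    mem_pow_of_map_eq_zero Ψ ε c v t ι hι σ ht hσ hΨv hΨc hsub
  have hG0 : Ψ (π G₀) = 0 := by rw [hΨmk, hG₀, hG]
  obtain ⟨r, hr, hrG⟩ := exists_mul_eq_self V (π G₀) (key _ hG0)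
  obtain ⟨H₀, hH₀⟩ := Ideal.Quotient.mk_surjective (1 - r)
  refine ⟨map ι H₀, ?_, ?_⟩
  · have h1 : ε (π H₀) = 1 := by
      rw [show π H₀ = 1 - r from hH₀, map_sub, map_one, sub_eq_self]
      have hεV : V ≤ RingHom.ker ε := Ideal.span_le.2 (by rintro _ ⟨l, rfl⟩; exact hεv l)
      exact hεV hr
    rw [constantCoeff_map]
    rw [hεmk] at h1
    rw [h1, map_one]
  · have h1 : H₀ * G₀ ∈ J₀ := by
      rw [← Ideal.Quotient.eq_zero_iff_mem, map_mul, hH₀, sub_mul, one_mul,
        show r * Ideal.Quotient.mk J₀ G₀ = Ideal.Quotient.mk J₀ G₀ from hrG, sub_self]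
    have h2 := Ideal.mem_map_of_mem (map ι) h1
    rw [map_mul, hG₀, Ideal.map_span] at h2
    convert h2 using 2
    ext P; simp [hf₀]

/-- An algebra with a quasi-regular section is smooth on a basic open containing the section. -/
theorem exists_smooth [Algebra.FinitePresentation A B] {n : ℕ} (σ : B →ₐ[A] A) (t : Fin n → B)
    (ht : CAlgX.IsQuasiRegular t) (hI : RingHom.ker σ.toRingHom = Ideal.span (Set.range t)) :
    ∃ h : B, σ h = 1 ∧ Algebra.Smooth A (Localization.Away h) := by
  classical
  obtain ⟨m, π₀, hπ₀, -⟩ := Algebra.FinitePresentation.out (R := A) (A := B)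
  have hσt : ∀ i, σ (t i) = 0 := fun i => hI.ge (Ideal.subset_span ⟨i, rfl⟩)
  let x : Fin m → B := fun j => π₀ (X j) - algebraMap A B (σ (π₀ (X j)))
  let Φ : MvPolynomial (Fin (n + m)) A →ₐ[A] B := aeval (Fin.append t x)
  have hΦ : Function.Surjective Φ := by
    rw [← AlgHom.range_eq_top, eq_top_iff]
    rintro b -
    obtain ⟨P, rfl⟩ := hπ₀ b
    induction P using MvPolynomial.induction_on with
    | C a => exact ⟨MvPolynomial.C a, by simp⟩
    | add P P' h h' => rw [map_add]; exact add_mem h h'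
    | mul_X P j h =>
      rw [map_mul]
      refine mul_mem h ?_
      have : π₀ (X j) = Φ (X (Fin.natAdd n j) + MvPolynomial.C (σ (π₀ (X j)))) := by simp [Φ, x]
      rw [this]; exact ⟨_, rfl⟩
  have hC : ∀ j, ∃ C' : Fin n → MvPolynomial (Fin (n + m)) A, x j = ∑ l, Φ (C' l) * t l := by
    intro j
    have : x j ∈ Ideal.span (Set.range t) := by rw [← hI]; simp [x]
    obtain ⟨c, hc⟩ := Ideal.mem_span_range_iff_exists_fun.1 this
    choose C' hC' using fun l => hΦ (c l)
    exact ⟨C', by simp [hC', hc]⟩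
  choose C' hC' using hC
  let f : Fin m → MvPolynomial (Fin (n + m)) A :=
    fun j => X (Fin.natAdd n j) - ∑ l, C' j l * X (Fin.castAdd m l)
  have hΦf : ∀ j, Φ (f j) = 0 := fun j => by
    simp only [f, map_sub, map_sum, map_mul, sub_eq_zero]
    simpa [Φ] using hC' j
  obtain ⟨K, hK⟩ := Algebra.FinitePresentation.ker_fG_of_surjective Φ hΦ
  choose hh hh1 hh2 using fun G : K => exists_killing σ t x ht hσt C' hΦf G.1
    (show Φ G.1 = 0 from hK.le (Submodule.subset_span G.2))
  let D : MvPolynomial (Fin (n + m)) A := (Matrix.of fun i j => pderiv (Fin.natAdd n i) (f j)).det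
  have hD : constantCoeff D = 1 := by
    rw [RingHom.map_det]
    refine (congrArg Matrix.det ?_).trans Matrix.det_one
    ext i j
    rw [RingHom.mapMatrix_apply, Matrix.map_apply, Matrix.of_apply]
    have hne : ∀ l, Fin.castAdd m l ≠ Fin.natAdd n i := fun l hl => by
      have := congrArg Fin.val hl; simp at this; omega
    by_cases hij : i = j
    · subst hij; simp [f, pderiv_X, Pi.single_apply, hne, map_sum]
    · simp [f, pderiv_X, Pi.single_apply, hne, map_sum, Matrix.one_apply_ne hij, hij, Ne.symm hij]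
  let H := D * ∏ G : K, hh G
  have hH1 : constantCoeff H = 1 := by simp [H, hD, hh1, map_prod]
  let J : Ideal (MvPolynomial (Fin (n + m)) A) := Ideal.span (Set.range f)
  let Qr := MvPolynomial (Fin (n + m)) A ⧸ J
  haveI : Algebra.FinitePresentation A Qr := Algebra.FinitePresentation.quotient (Submodule.fg_span (Set.finite_range f))
  let φ : Qr →ₐ[A] B := Ideal.Quotient.liftₐ J Φ (fun a ha => (Ideal.span_le (I := RingHom.ker Φ.toRingHom)).2 (by rintro _ ⟨j, rfl⟩; exact hΦf j) ha)
  let u : Qr := Ideal.Quotient.mk J H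
  have hφ : Function.Surjective φ := fun b => by
    obtain ⟨P, rfl⟩ := hΦ b; exact ⟨Ideal.Quotient.mk J P, rfl⟩
  have hker : ∀ y, φ y = 0 → u * y = 0 := by
    intro y hy
    obtain ⟨P, rfl⟩ := Ideal.Quotient.mk_surjective y
    have hP : P ∈ Ideal.span (K : Set (MvPolynomial (Fin (n + m)) A)) := hK.ge hy
    rw [← map_mul, Ideal.Quotient.eq_zero_iff_mem]
    have : Ideal.span (K : Set (MvPolynomial (Fin (n + m)) A)) ≤ Submodule.comap (LinearMap.mulLeft (MvPolynomial (Fin (n + m)) A) H) J := by
      refine Submodule.span_le.2 fun G hGK => ?_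
      show H * G ∈ J
      obtain ⟨w, hw⟩ : hh ⟨G, hGK⟩ ∣ H := dvd_mul_of_dvd_right (Finset.dvd_prod_of_mem _ (Finset.mem_univ _)) _
      rw [hw, mul_right_comm]
      exact J.mul_mem_right _ (hh2 ⟨G, hGK⟩)
    exact this hP
  refine ⟨φ u, ?_, ?_⟩
  · have : (σ.comp Φ) = aeval (0 : Fin (n + m) → A) := by
      refine MvPolynomial.algHom_ext fun i => ?_
      induction i using Fin.addCases with
      | left l => simp [Φ, hσt]
      | right j => simp [Φ, x]
    show σ (Φ H) = 1
    rw [← AlgHom.comp_apply, this, aeval_zero, hH1]; simp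
  · let δ : Qr := Ideal.Quotient.mk J D
    haveI hsm : Algebra.IsStandardSmoothOfRelativeDimension (n + m - m) A (Localization.Away δ) :=
      GrothLib.JacLocus.isStandardSmooth_localization f (Fin.natAdd n) (Fin.natAdd_injective m n)
    haveI : Algebra.IsStandardSmooth A (Localization.Away δ) :=
      Algebra.IsStandardSmoothOfRelativeDimension.isStandardSmooth (n + m - m)
    have h1 : Algebra.Smooth A (Localization.Away u) := by
      rw [← Algebra.basicOpen_subset_smoothLocus_iff_smooth]
      refine subset_trans ?_ (Algebra.basicOpen_subset_smoothLocus_iff_smooth.2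
        (inferInstance : Algebra.Smooth A (Localization.Away δ)))
      intro q hq hδ
      apply hq
      show u ∈ q.asIdeal
      simp only [u, H, map_mul]
      exact q.asIdeal.mul_mem_right _ hδ
    let e : Localization.Away u →ₐ[A] Localization.Away (φ u) := IsLocalization.Away.mapₐ _ _ φ u
    have he : ∀ y, e (algebraMap Qr _ y) = algebraMap B _ (φ y) := fun y => by
      simp [e, IsLocalization.Away.mapₐ_apply, IsLocalization.Away.map]
    have hbij : Function.Bijective e := by
      constructor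
      · rw [injective_iff_map_eq_zero]
        intro z hz
        obtain ⟨⟨y, ⟨_, k, rfl⟩⟩, hy⟩ := IsLocalization.surj (Submonoid.powers u) z
        have h0 : algebraMap B (Localization.Away (φ u)) (φ y) = 0 := by
          rw [← he, ← show z * algebraMap Qr _ (u ^ k) = algebraMap Qr _ y from hy, map_mul, hz, zero_mul]
        obtain ⟨⟨_, l, rfl⟩, hl⟩ := (IsLocalization.map_eq_zero_iff (Submonoid.powers (φ u)) _ _).1 h0
        have h2 : u * (u ^ l * y) = 0 := hker _ (by simpa using hl)
        have h3 : algebraMap Qr (Localization.Away u) y = 0 :=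
          (IsLocalization.map_eq_zero_iff (Submonoid.powers u) _ _).2
            ⟨⟨u ^ (l + 1), l + 1, rfl⟩, by simpa [pow_succ', mul_assoc] using h2⟩
        have hy' : z * algebraMap Qr _ (u ^ k) = 0 := hy.trans h3
        rw [map_pow] at hy'
        exact ((IsLocalization.Away.algebraMap_isUnit u).pow k).mul_left_eq_zero.1 hy'
      · intro z
        obtain ⟨⟨b, ⟨_, k, rfl⟩⟩, hb⟩ := IsLocalization.surj (Submonoid.powers (φ u)) z
        obtain ⟨y, rfl⟩ := hφ b
        refine ⟨IsLocalization.mk' _ y (⟨u ^ k, k, rfl⟩ : Submonoid.powers u), ?_⟩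
        refine ((IsLocalization.Away.algebraMap_isUnit (φ u)).pow k).mul_left_inj.1 ?_
        have h5 := congrArg e (IsLocalization.mk'_spec (Localization.Away u) y (⟨u ^ k, k, rfl⟩ : Submonoid.powers u))
        simp only [map_mul, map_pow, he] at h5
        rw [h5]
        simpa using hb.symm
    exact Algebra.Smooth.of_equiv (AlgEquiv.ofBijective e hbij)

end GrothLib.SecQReg10
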