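import Groth.Agent.Lib.SecQReg10.Scheme
import Groth.Agent.Lib.LimSmooth.Reduction

/-!
# Differential smoothness and limits
-/

set_option autoImplicit false
set_option linter.all false
set_option backward.isDefEq.respectTransparency false
universe u

open CategoryTheory Limits AlgebraicGeometry

noncomputable section

namespace GrothLib.SecQReg10

open GrothLib.LimDesc GrothLib.LimSmooth

/-- The locus where a morphism is differentially smooth. -/
def diagSm {X S : Scheme.{u}} (f : X ⟶ S) [LocallyOfFinitePresentation f] : X.Opens :=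
  pullback.diagonal f ⁻¹ᵁ (pullback.snd f f).smoothLocus

theorem smooth_restrict {X S : Scheme.{u}} (f : X ⟶ S) [LocallyOfFinitePresentation f] :
    Smooth (f.smoothLocus.ι ≫ f) := by
  rw [← Scheme.Hom.smoothLocus_eq_top_iff, ← Scheme.Hom.preimage_smoothLocus_eq, Scheme.Opens.ι_preimage_self]

theorem mem_smoothLocus_of_smooth {X S : Scheme.{u}} (f : X ⟶ S) [LocallyOfFinitePresentation f] (U : X.Opens)
    (h : Smooth (U.ι ≫ f)) (x : X) (hx : x ∈ U) : x ∈ f.smoothLocus := by
  have : (⟨x, hx⟩ : U.toScheme) ∈ (U.ι ≫ f).smoothLocus := by rw [Scheme.Hom.smoothLocus_eq_top]; trivial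
  rwa [← Scheme.Hom.preimage_smoothLocus_eq] at this

theorem isRegularImmersion_diagonal_iff {X S : Scheme.{u}} (f : X ⟶ S) [LocallyOfFinitePresentation f] :
    RegImm.IsRegularImmersion .quasi (pullback.diagonal f) ↔ diagSm f = ⊤ := by
  have hd : pullback.diagonal f ≫ pullback.snd f f = 𝟙 X := pullback.diagonal_snd f
  haveI := isImmersion_section hd
  constructor
  · intro h
    exact top_le_iff.1 fun x _ => (smooth_iff_at _ _ hd x).2 (h.2 x)
  · intro h
    exact ⟨inferInstance, fun x => (smooth_iff_at _ _ hd x).1 (show x ∈ diagSm f from h ▸ trivial)⟩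

/-- The squares of a base change. -/
theorem isPullback_square {X S X' S' : Scheme.{u}} {f : X ⟶ S} {f' : X' ⟶ S'} {r : X' ⟶ X} {s : S' ⟶ S}
    (h : IsPullback r f' f s) :
    IsPullback (pullback.map f' f' f f r r s h.w.symm h.w.symm) (pullback.snd f' f') (pullback.snd f f) r := by
  refine IsPullback.of_right ?_ (pullback.lift_snd _ _ _) (IsPullback.of_hasPullback f f)
  rw [show pullback.map f' f' f f r r s h.w.symm h.w.symm ≫ pullback.fst f f = pullback.fst f' f' ≫ r from
    pullback.lift_fst _ _ _, h.w]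
  exact (IsPullback.of_hasPullback f' f').paste_horiz h

theorem diagonal_map {X S X' S' : Scheme.{u}} {f : X ⟶ S} {f' : X' ⟶ S'} {r : X' ⟶ X} {s : S' ⟶ S}
    (h : IsPullback r f' f s) :
    pullback.diagonal f' ≫ pullback.map f' f' f f r r s h.w.symm h.w.symm = r ≫ pullback.diagonal f := by
  apply pullback.hom_ext <;> simp

/-- Differential smoothness is stable under base change. -/
theorem preimage_diagSm_le {X S X' S' : Scheme.{u}} {f : X ⟶ S} {f' : X' ⟶ S'} {r : X' ⟶ X} {s : S' ⟶ S}
    (h : IsPullback r f' f s) [LocallyOfFinitePresentation f] [LocallyOfFinitePresentation f'] :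
    r ⁻¹ᵁ diagSm f ≤ diagSm f' := by
  intro x hx
  let δ := pullback.map f' f' f f r r s h.w.symm h.w.symm
  have hsm : Smooth ((δ ⁻¹ᵁ (pullback.snd f f).smoothLocus).ι ≫ pullback.snd f' f') :=
    MorphismProperty.of_isPullback ((isPullback_morphismRestrict δ _).paste_vert (isPullback_square h))
      (smooth_restrict _)
  refine mem_smoothLocus_of_smooth _ _ hsm _ ?_
  have : (pullback.diagonal f' ≫ δ) x ∈ (pullback.snd f f).smoothLocus := by
    rw [diagonal_map h]; exact hx
  exact this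

variable {I : Type u} [SmallCategory I] [IsCofiltered I] (D : I ⥤ Scheme.{u}) {c : Cone D}
  (hc : IsLimit c) [∀ (i j : I) (f : i ⟶ j), IsAffineHom (D.map f)] {i₀ : I}
  {X₀ : Scheme.{u}} (f₀ : X₀ ⟶ D.obj i₀) [LocallyOfFinitePresentation f₀]
  {X : Scheme.{u}} {f : X ⟶ c.pt} {qX : X ⟶ X₀} (hX : IsPullback qX f f₀ (c.π.app i₀))

include hc hX in
/-- A point of differential smoothness comes from a stage. -/
theorem exists_stage_mem [LocallyOfFinitePresentation f] (x : X) (hx : x ∈ diagSm f) :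
    ∃ (j : I) (φ : j ⟶ i₀) (Xj : Scheme.{u}) (fj : Xj ⟶ D.obj j) (pX : Xj ⟶ X₀) (rX : X ⟶ Xj)
      (_ : LocallyOfFinitePresentation fj),
      IsPullback pX fj f₀ (D.map φ) ∧ rX ≫ pX = qX ∧ rX ≫ fj = f ≫ c.π.app j ∧ rX x ∈ diagSm fj := by
  obtain ⟨j, φ, Pj, Yj, sj, gj, pY, pP, rP, hYj, hPj, hrP, hrg, V, hxV, hV⟩ :=
    (nhd_iff_exists_stage D hc (pullback.snd f₀ f₀) f₀ hX (isPullback_square hX) @Smooth
      (fun a b _ h => smooth_comp_openImmersion a b h) affineCase_smooth (pullback.diagonal f x)).1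
      ⟨(pullback.snd f f).smoothLocus, hx, smooth_restrict _⟩
  haveI : LocallyOfFinitePresentation gj :=
    MorphismProperty.of_isPullback (P := @LocallyOfFinitePresentation) hYj inferInstance
  have w : qX ≫ f₀ = (f ≫ c.π.app j) ≫ D.map φ := by rw [Category.assoc, c.w, hX.w]
  let rY : X ⟶ Yj := hYj.lift qX (f ≫ c.π.app j) w
  refine ⟨j, φ, Yj, gj, pY, rY, inferInstance, hYj, hYj.lift_fst _ _ _, hYj.lift_snd _ _ _, ?_⟩
  let e := (isPullback_square hYj).isoIsPullback _ _ hPj
  have he1 : e.hom ≫ pP = pullback.map gj gj f₀ f₀ pY pY (D.map φ) hYj.w.symm hYj.w.symm :=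
    IsPullback.isoIsPullback_hom_fst _ _ _ _
  have he2 : e.hom ≫ sj = pullback.snd gj gj := IsPullback.isoIsPullback_hom_snd _ _ _ _
  have hrPs : rP ≫ sj = pullback.snd f f ≫ rY := by
    apply hYj.hom_ext
    · rw [Category.assoc, Category.assoc, hYj.lift_fst, ← hPj.w, reassoc_of% hrP]
      exact pullback.lift_snd _ _ _
    · rw [Category.assoc, Category.assoc, hYj.lift_snd, hrg]
  have key : (rY ≫ pullback.diagonal gj) ≫ e.hom = pullback.diagonal f ≫ rP := by
    apply hPj.hom_ext
    · rw [Category.assoc, Category.assoc, Category.assoc, he1, hrP, diagonal_map hYj, diagonal_map hX,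
        ← Category.assoc, hYj.lift_fst]
    · rw [Category.assoc, Category.assoc, Category.assoc, he2, hrPs, pullback.diagonal_snd,
        Category.comp_id, pullback.diagonal_snd_assoc]
  have hsm : Smooth ((e.hom ⁻¹ᵁ V).ι ≫ pullback.snd gj gj) := by
    rw [← he2, ← Category.assoc, ← morphismRestrict_ι, Category.assoc]
    exact (MorphismProperty.cancel_left_of_respectsIso @Smooth _ _).2 hV
  refine mem_smoothLocus_of_smooth _ _ hsm _ ?_
  show ((rY ≫ pullback.diagonal gj) ≫ e.hom) x ∈ V
  rw [key]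
  exact hxV

include hc hX in
/-- Differential smoothness holds on the limit iff it holds at some stage. -/
theorem isRegularImmersion_diagonal_iff_exists [CompactSpace X₀] :
    RegImm.IsRegularImmersion .quasi (pullback.diagonal f) ↔
      ∃ (j : I) (φ : j ⟶ i₀) (Xj : Scheme.{u}) (fj : Xj ⟶ D.obj j) (pX : Xj ⟶ X₀),
        IsPullback pX fj f₀ (D.map φ) ∧ RegImm.IsRegularImmersion .quasi (pullback.diagonal fj) := by
  haveI : LocallyOfFinitePresentation f :=
    MorphismProperty.of_isPullback (P := @LocallyOfFinitePresentation) hX inferInstance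
  constructor
  · intro h
    rw [isRegularImmersion_diagonal_iff] at h
    let F := diag D i₀ f₀
    let cX := cone D i₀ f₀ hX
    let sn : ∀ k : Over i₀, F.obj k ⟶ D.obj k.left := fun k => pullback.snd f₀ (D.map k.hom)
    haveI : ∀ k, LocallyOfFinitePresentation (sn k) := fun k =>
      MorphismProperty.of_isPullback (P := @LocallyOfFinitePresentation)
        (IsPullback.of_hasPullback f₀ (D.map k.hom)) inferInstance
    let O : ∀ k : Over i₀, (F.obj k).Opens := fun k => diagSm (sn k)
    have hO : ∀ {k l : Over i₀} (ψ : k ⟶ l), F.map ψ ⁻¹ᵁ O l ≤ O k := fun ψ =>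
      preimage_diagSm_le (isPullback_map D i₀ f₀ ψ)
    have hcov : ∀ x : X, ∃ k : Over i₀, cX.π.app k x ∈ O k := by
      intro x
      obtain ⟨j, φ, Xj, fj, pX, rX, _, hXj, hr1, hr2, hmem⟩ := exists_stage_mem D hc f₀ hX x (h ▸ trivial)
      refine ⟨Over.mk φ, ?_⟩
      let e : pullback f₀ (D.map φ) ≅ Xj := (IsPullback.of_hasPullback f₀ (D.map φ)).isoIsPullback X₀ _ hXj
      have he1 : e.hom ≫ pX = pullback.fst f₀ (D.map φ) := IsPullback.isoIsPullback_hom_fst _ _ _ _
      have he2 : e.hom ≫ fj = pullback.snd f₀ (D.map φ) := IsPullback.isoIsPullback_hom_snd _ _ _ _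
      have hsq : IsPullback e.hom (sn (Over.mk φ)) fj (𝟙 _) :=
        IsPullback.of_horiz_isIso ⟨by rw [he2, Category.comp_id]; rfl⟩
      refine preimage_diagSm_le hsq ?_
      have hk : cX.π.app (Over.mk φ) ≫ e.hom = rX := by
        apply hXj.hom_ext
        · rw [Category.assoc, he1, hr1]; exact π_fst D i₀ f₀ hX (Over.mk φ)
        · rw [Category.assoc, he2, hr2]; exact π_snd D i₀ f₀ hX (Over.mk φ)
      show (cX.π.app (Over.mk φ) ≫ e.hom) x ∈ diagSm fj
      rw [hk]
      exact hmem
    let top : Over i₀ := Over.mk (𝟙 i₀)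
    haveI : ∀ {k l : Over i₀} (ψ : k ⟶ l), IsAffineHom (F.map ψ) := fun ψ => isAffineHom_map D i₀ f₀ ψ
    haveI : ∀ k, CompactSpace (F.obj k) := fun k => compactSpace_obj D i₀ f₀ k
    haveI : CompactSpace X := by
      haveI : IsAffineHom (c.π.app i₀) := isAffineHom_π_app D c hc i₀
      haveI : IsAffineHom qX := MorphismProperty.of_isPullback (P := @IsAffineHom) hX.flip inferInstance
      exact QuasiCompact.compactSpace_of_compactSpace qX
    obtain ⟨T, hT⟩ := isCompact_univ.elim_finite_subcover (fun k : Over i₀ => ((show X.Opens from cX.π.app k ⁻¹ᵁ O k) : Set X))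
      (fun k => (cX.π.app k ⁻¹ᵁ O k).2) (fun x _ => Set.mem_iUnion.2 (hcov x))
    obtain ⟨m, hm⟩ := IsCofiltered.inf_objs_exists T
    have hmtop : cX.π.app m ⁻¹ᵁ O m = ⊤ := by
      refine top_le_iff.1 fun x _ => ?_
      obtain ⟨k, hk, hxk⟩ := Set.mem_iUnion₂.1 (hT (Set.mem_univ x))
      obtain ⟨ψ⟩ := hm hk
      refine hO ψ ?_
      show (cX.π.app m ≫ F.map ψ) x ∈ O k
      rw [Cone.w]
      exact hxk
    obtain ⟨n, ψ, hn⟩ := exists_map_eq_top F cX (isLimitCone D i₀ f₀ hX hc) (O m) hmtop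
    refine ⟨n.left, n.hom, F.obj n, sn n, pullback.fst _ _, IsPullback.of_hasPullback f₀ (D.map n.hom), ?_⟩
    rw [isRegularImmersion_diagonal_iff, ← top_le_iff]
    exact hn.ge.trans (hO ψ)
  · rintro ⟨j, φ, Xj, fj, pX, hXj, hj⟩
    haveI : LocallyOfFinitePresentation fj :=
      MorphismProperty.of_isPullback (P := @LocallyOfFinitePresentation) hXj inferInstance
    rw [isRegularImmersion_diagonal_iff] at hj ⊢
    have w : qX ≫ f₀ = (f ≫ c.π.app j) ≫ D.map φ := by rw [Category.assoc, c.w, hX.w]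
    have hsq : IsPullback (hXj.lift qX (f ≫ c.π.app j) w) f fj (c.π.app j) := by
      refine IsPullback.of_right ?_ (hXj.lift_snd _ _ _) hXj
      rw [hXj.lift_fst, c.w]
      exact hX
    rw [← top_le_iff]
    refine le_trans ?_ (preimage_diagSm_le hsq)
    rw [hj]
    exact le_top

end GrothLib.SecQReg10
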