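import Groth.Agent.Lib.SecQReg10.Algebra
import Groth.Agent.Lib.SmoothSection.Coords
import Groth.Agent.Lib.SeqKinds.Basic
import Groth.Agent.Lib.RegSeqLoc.Immersion
import Groth.Agent.S5802
import Groth.Prelude.Def_RegImm
import Mathlib.AlgebraicGeometry.Morphisms.Smooth

/-!
# Smoothness along a section and quasi-regular immersions
-/

set_option autoImplicit false
set_option linter.all false
set_option backward.isDefEq.respectTransparency false
universe u

open CategoryTheory AlgebraicGeometry TopologicalSpace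

noncomputable section

namespace GrothLib.SecQReg10

variable {X S Z : Scheme.{u}}

theorem isQuasiRegular_cast {R : Type u} [CommRing R] {c c' : ℕ} (e : c' = c) (f : Fin c → R)
    (hf : CAlgX.IsQuasiRegular f) : CAlgX.IsQuasiRegular (f ∘ Fin.cast e) := by
  subst e; exact hf

/-- Quasi-regularity of lists under flat maps. -/
theorem seq_map {R R' : Type u} [CommRing R] [CommRing R'] (φ : R →+* R') (hφ : φ.Flat) (rs : List R)
    (h : RegImm.Kind.Seq .quasi R rs) : RegImm.Kind.Seq .quasi R' (rs.map φ) := by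
  show CAlgX.IsQuasiRegular (rs.map φ).get
  have := isQuasiRegular_cast (List.length_map φ) _ (GrothLib.SeqKinds.isQuasiRegular_map φ hφ _ h)
  convert this using 1
  funext i
  simp [List.get_eq_getElem]

/-- The data of a quasi-regular immersion over an open. -/
def QData (i : Z ⟶ X) (U : X.Opens) : Prop :=
  IsClosedImmersion (i ∣_ U) ∧ ∃ rs : List Γ(X, U), RegImm.Kind.Seq .quasi Γ(X, U) rs ∧
    RingHom.ker (i.app U).hom = Ideal.ofList rs

/-- Kernel on a basic open. -/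
theorem ker_app_basicOpen (i : Z ⟶ X) {U : X.Opens} (hU : IsAffineOpen U) (hV : IsAffineOpen (i ⁻¹ᵁ U))
    (b : Γ(X, U)) :
    RingHom.ker (i.app (X.basicOpen b)).hom =
      (RingHom.ker (i.app U).hom).map (X.presheaf.map (homOfLE (X.basicOpen_le b)).op).hom := by
  let res := (X.presheaf.map (homOfLE (X.basicOpen_le b)).op).hom
  have hnat : ∀ a, i.app (X.basicOpen b) (res a) =
      Z.presheaf.map (homOfLE (i.preimage_mono (X.basicOpen_le b))).op (i.app U a) := fun a => by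
    have h := congrArg (fun φ => φ.hom a) (i.naturality (homOfLE (X.basicOpen_le b)).op)
    exact h
  refine le_antisymm (fun y hy => ?_) (Ideal.map_le_iff_le_comap.2 fun a ha => ?_)
  · letI : Algebra Γ(X, U) Γ(X, X.basicOpen b) := res.toAlgebra
    haveI : IsLocalization.Away b Γ(X, X.basicOpen b) := hU.isLocalization_basicOpen b
    letI : Algebra Γ(Z, i ⁻¹ᵁ U) Γ(Z, i ⁻¹ᵁ X.basicOpen b) :=
      (Z.presheaf.map (homOfLE (i.preimage_mono (X.basicOpen_le b))).op).hom.toAlgebra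
    haveI : IsLocalization.Away (i.app U b) Γ(Z, i ⁻¹ᵁ X.basicOpen b) :=
      hV.isLocalization_of_eq_basicOpen (i.app U b) (homOfLE (i.preimage_mono (X.basicOpen_le b)))
        (Scheme.preimage_basicOpen i b)
    obtain ⟨⟨a, ⟨_, k, rfl⟩⟩, ha⟩ := IsLocalization.surj (Submonoid.powers b) y
    have h0 : algebraMap Γ(Z, i ⁻¹ᵁ U) Γ(Z, i ⁻¹ᵁ X.basicOpen b) (i.app U a) = 0 := by
      have := congrArg (i.app (X.basicOpen b)).hom ha
      rw [map_mul, show (i.app (X.basicOpen b)).hom y = 0 from hy, zero_mul] at this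
      exact (hnat a).symm.trans this.symm
    obtain ⟨⟨_, l, rfl⟩, hl⟩ := (IsLocalization.map_eq_zero_iff (Submonoid.powers (i.app U b)) _ _).1 h0
    have hmem : b ^ l * a ∈ RingHom.ker (i.app U).hom := by
      rw [RingHom.mem_ker, map_mul, map_pow]; exact hl
    have h1 := Ideal.mem_map_of_mem res hmem
    rw [map_mul, map_pow] at h1
    have hb : IsUnit (res b) := IsLocalization.Away.algebraMap_isUnit b
    rw [Ideal.unit_mul_mem_iff_mem _ (hb.pow l)] at h1
    rw [show res a = y * res (b ^ k) from ha.symm, map_pow, mul_comm,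
      Ideal.unit_mul_mem_iff_mem _ (hb.pow k)] at h1
    exact h1
  · show i.app (X.basicOpen b) (res a) = 0
    rw [hnat, show i.app U a = 0 from ha, map_zero]

theorem isAffineOpen_preimage (i : Z ⟶ X) {U : X.Opens} (hU : IsAffineOpen U) [IsClosedImmersion (i ∣_ U)] :
    IsAffineOpen (i ⁻¹ᵁ U) := by
  have : IsAffine U.toScheme := hU
  exact isAffine_of_isAffineHom (i ∣_ U)

theorem QData.basicOpen {i : Z ⟶ X} {U : X.Opens} (hU : IsAffineOpen U) (h : QData i U) (b : Γ(X, U))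
    (D : X.Opens) (hD : D = X.basicOpen b) : QData i D := by
  subst hD
  obtain ⟨hci, rs, hrs, hker⟩ := h
  haveI := hci
  have hV := isAffineOpen_preimage i hU
  refine ⟨?_, rs.map (X.presheaf.map (homOfLE (X.basicOpen_le b)).op).hom, seq_map _ ?_ rs hrs, ?_⟩
  · have h2 : IsClosedImmersion ((i ∣_ U) ∣_ (U.ι ⁻¹ᵁ X.basicOpen b)) := IsZariskiLocalAtTarget.restrict hci _
    rw [MorphismProperty.arrow_mk_iso_iff @IsClosedImmersion (morphismRestrictRestrict i U _)] at h2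
    have e2 : U.ι ''ᵁ (U.ι ⁻¹ᵁ X.basicOpen b) = X.basicOpen b := by
      rw [Scheme.Hom.image_preimage_eq_opensRange_inf, Scheme.Opens.opensRange_ι]
      exact inf_eq_right.2 (X.basicOpen_le b)
    rwa [MorphismProperty.arrow_mk_iso_iff @IsClosedImmersion (morphismRestrictEq i e2)] at h2
  · letI : Algebra Γ(X, U) Γ(X, X.basicOpen b) := (X.presheaf.map (homOfLE (X.basicOpen_le b)).op).hom.toAlgebra
    haveI : IsLocalization.Away b Γ(X, X.basicOpen b) := hU.isLocalization_basicOpen b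
    exact IsLocalization.flat Γ(X, X.basicOpen b) (Submonoid.powers b)
  · rw [ker_app_basicOpen i hU hV b, hker, Ideal.map_ofList]

/-- Restricting the source to an open containing the preimage does not change the data. -/
theorem qData_ι_comp_iff (i : Z ⟶ X) (V : Z.Opens) (U : X.Opens) (h : i ⁻¹ᵁ U ≤ V) :
    QData (V.ι ≫ i) U ↔ QData i U := by
  have hle : i ⁻¹ᵁ U ≤ V.ι.opensRange := by rwa [Scheme.Opens.opensRange_ι]
  haveI : IsIso (V.ι ∣_ (i ⁻¹ᵁ U)) := by
    haveI : Surjective (V.ι ∣_ (i ⁻¹ᵁ U)) := ⟨fun ⟨z, hz⟩ => ⟨⟨⟨z, h hz⟩, hz⟩, Subtype.ext (by simp)⟩⟩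
    haveI : Epi (V.ι ∣_ (i ⁻¹ᵁ U)).base :=
      (TopCat.epi_iff_surjective _).2 (V.ι ∣_ (i ⁻¹ᵁ U)).surjective
    exact IsOpenImmersion.isIso (V.ι ∣_ (i ⁻¹ᵁ U))
  have hci : IsClosedImmersion ((V.ι ≫ i) ∣_ U) ↔ IsClosedImmersion (i ∣_ U) := by
    rw [morphismRestrict_comp]
    exact MorphismProperty.cancel_left_of_respectsIso @IsClosedImmersion _ _
  haveI : IsIso (V.ι.app (i ⁻¹ᵁ U)) := V.ι.isIso_app _ hle
  have hker : RingHom.ker ((V.ι ≫ i).app U).hom = RingHom.ker (i.app U).hom := by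
    refine Ideal.ext fun a => ?_
    rw [RingHom.mem_ker, RingHom.mem_ker, Scheme.Hom.comp_app, CommRingCat.comp_apply]
    exact map_eq_zero_iff _ (ConcreteCategory.bijective_of_isIso (V.ι.app (i ⁻¹ᵁ U))).1
  unfold QData
  rw [hci, hker]

/-- The opens adapted to a section. -/
theorem exists_adapted {f : X ⟶ S} {u : S ⟶ X} (hu : u ≫ f = 𝟙 S) {z : S} {U₀ : S.Opens}
    (hU₀ : IsAffineOpen U₀) {W₀ : X.Opens} (hz : u z ∈ W₀) (e : W₀ ≤ f ⁻¹ᵁ U₀) :
    ∃ g : Γ(S, U₀), z ∈ S.basicOpen g ∧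
      u ⁻¹ᵁ X.basicOpen (f.appLE U₀ W₀ e g) = S.basicOpen g := by
  have hfz : ∀ y, f (u y) = y := fun y => by
    rw [← Scheme.Hom.comp_apply, hu]; rfl
  have hzU : z ∈ U₀ := hfz z ▸ e hz
  obtain ⟨g, hg, hzg⟩ := hU₀.exists_basicOpen_le (⟨z, hzU, hz⟩ : (U₀ ⊓ u ⁻¹ᵁ W₀ : S.Opens)) hzU
  refine ⟨g, hzg, ?_⟩
  rw [Scheme.basicOpen_appLE]
  ext y
  constructor
  · intro hy
    have : f (u y) ∈ S.basicOpen g := hy.2
    rwa [hfz] at this
  · intro hy
    exact ⟨(hg hy).2, show f (u y) ∈ S.basicOpen g from (hfz y).symm ▸ hy⟩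

/-- The retraction on rings given by a section. -/
theorem retraction_apply {f : X ⟶ S} {u : S ⟶ X} (hu : u ≫ f = 𝟙 S) {V : S.Opens} {W : X.Opens}
    (e : W ≤ f ⁻¹ᵁ V) (eu : V ≤ u ⁻¹ᵁ W) (a : Γ(S, V)) :
    u.appLE W V eu (f.appLE V W e a) = a := by
  have h := congrArg (fun φ => φ.hom a) (Scheme.Hom.appLE_comp_appLE u f V W V e eu)
  refine h.trans ?_
  have key : ∀ (g : S ⟶ S) (hg : g = 𝟙 S) (e' : V ≤ g ⁻¹ᵁ V), g.appLE V V e' = 𝟙 _ := by
    rintro g rfl e'
    simp [Scheme.Hom.appLE]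
    exact S.presheaf.map_id _
  rw [key _ hu]
  rfl

theorem ker_appLE_of_eq (u : S ⟶ X) {V : S.Opens} {W : X.Opens} (h : u ⁻¹ᵁ W = V) :
    RingHom.ker (u.appLE W V h.ge).hom = RingHom.ker (u.app W).hom := by
  subst h
  rw [Scheme.Hom.app_eq_appLE]

/-- A section is a quasi-regular immersion at a point where the morphism is smooth. -/
theorem qData_of_smooth (f : X ⟶ S) [LocallyOfFinitePresentation f] (u : S ⟶ X) (hu : u ≫ f = 𝟙 S) (z : S)
    (hz : u z ∈ f.smoothLocus) : ∃ U : X.Opens, IsAffineOpen U ∧ u z ∈ U ∧ QData u U := by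
  classical
  haveI : Smooth (f.smoothLocus.ι ≫ f) := by
    rw [← Scheme.Hom.smoothLocus_eq_top_iff, ← Scheme.Hom.preimage_smoothLocus_eq, Scheme.Opens.ι_preimage_self]
  obtain ⟨U₀, hU₀, W₁, hW₁, hzW₁, e₁, hsm₁⟩ :=
    Smooth.exists_isStandardSmooth (f.smoothLocus.ι ≫ f) ⟨u z, hz⟩
  let W₀ := f.smoothLocus.ι ''ᵁ W₁
  have hW₀ : IsAffineOpen W₀ := hW₁.image_of_isOpenImmersion _
  have hzW₀ : u z ∈ W₀ := ⟨⟨u z, hz⟩, hzW₁, rfl⟩
  have e₀ : W₀ ≤ f ⁻¹ᵁ U₀ := by
    rintro _ ⟨w, hw, rfl⟩; exact e₁ hw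
  have hsm₀ : (f.appLE U₀ W₀ e₀).hom.IsStandardSmooth := by
    have heq : (f.smoothLocus.ι ≫ f).appLE U₀ W₁ e₁ =
        f.appLE U₀ W₀ e₀ ≫ (f.smoothLocus.ι.appIso W₁).hom := by
      rw [Scheme.Hom.appIso_hom', Scheme.Hom.appLE_comp_appLE]
    rw [heq] at hsm₁
    exact (RingHom.isStandardSmooth_respectsIso.cancel_right_isIso _ _).1 hsm₁
  obtain ⟨g, hzg, hpre⟩ := exists_adapted hu hU₀ hzW₀ e₀
  let V := S.basicOpen g
  let W := X.basicOpen (f.appLE U₀ W₀ e₀ g)
  have hV : IsAffineOpen V := hU₀.basicOpen g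
  have hW : IsAffineOpen W := hW₀.basicOpen _
  have e : W ≤ f ⁻¹ᵁ V := (Scheme.basicOpen_appLE f W₀ U₀ e₀ g).le.trans inf_le_right
  have hsm : (f.appLE V W e).hom.IsStandardSmooth := by
    let _ : Algebra Γ(S, U₀) Γ(S, V) := (S.presheaf.map (homOfLE (S.basicOpen_le g)).op).hom.toAlgebra
    let _ : Algebra Γ(X, W₀) Γ(X, W) :=
      (X.presheaf.map (homOfLE (X.basicOpen_le (f.appLE U₀ W₀ e₀ g))).op).hom.toAlgebra
    have : IsLocalization.Away g Γ(S, V) := hU₀.isLocalization_basicOpen g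
    have : IsLocalization.Away ((f.appLE U₀ W₀ e₀).hom g) Γ(X, W) := hW₀.isLocalization_basicOpen _
    have h1 := RingHom.isStandardSmooth_localizationPreserves.away
      (f := (f.appLE U₀ W₀ e₀).hom) g (R' := Γ(S, V)) (S' := Γ(X, W)) hsm₀
    convert h1 using 1
    refine IsLocalization.ringHom_ext (Submonoid.powers g) (RingHom.ext fun r => ?_)
    rw [IsLocalization.Away.map, RingHom.comp_apply, RingHom.comp_apply, IsLocalization.map_eq]
    show (S.presheaf.map (homOfLE (S.basicOpen_le g)).op ≫ f.appLE V W e) r =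
      (f.appLE U₀ W₀ e₀ ≫ X.presheaf.map (homOfLE (X.basicOpen_le _)).op) r
    rw [Scheme.Hom.map_appLE, Scheme.Hom.appLE_map]
  have hzW : u z ∈ W := (SetLike.ext_iff.1 hpre z).2 hzg
  letI : Algebra Γ(S, V) Γ(X, W) := (f.appLE V W e).hom.toAlgebra
  haveI : Algebra.IsStandardSmooth Γ(S, V) Γ(X, W) := hsm
  obtain ⟨ι, σ', _, _, ⟨P⟩⟩ := ‹Algebra.IsStandardSmooth Γ(S, V) Γ(X, W)›.out
  haveI := P.isStandardSmoothOfRelativeDimension (n := P.dimension) rfl
  let σ : Γ(X, W) →ₐ[Γ(S, V)] Γ(S, V) :=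
    { (u.appLE W V hpre.ge).hom with commutes' := fun a => retraction_apply hu e hpre.ge a }
  let q : Ideal Γ(X, W) := (hW.primeIdealOf ⟨u z, hzW⟩).asIdeal
  have hker : RingHom.ker σ.toRingHom = RingHom.ker (u.app W).hom := ker_appLE_of_eq u hpre
  have hq : RingHom.ker σ ≤ q := by
    intro b hb
    by_contra hbq
    have hzb : u z ∈ X.basicOpen b := by
      have : hW.fromSpec (hW.primeIdealOf ⟨u z, hzW⟩) ∈ X.basicOpen b := by
        rw [← Scheme.Hom.mem_preimage, hW.fromSpec_preimage_basicOpen]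
        exact hbq
      rwa [hW.fromSpec_primeIdealOf] at this
    have h0 : u.app W b = 0 := hker.le hb
    have : z ∈ u ⁻¹ᵁ X.basicOpen b := hzb
    rw [Scheme.preimage_basicOpen, h0, Scheme.basicOpen_zero] at this
    exact this
  obtain ⟨h, hh, Y, hreg, hYσ, hhY⟩ := GrothLib.SmoothSection.exists_coords P.dimension σ q hq
  have hzh : u z ∈ X.basicOpen h := by
    have : hW.fromSpec (hW.primeIdealOf ⟨u z, hzW⟩) ∈ X.basicOpen h := by
      rw [← Scheme.Hom.mem_preimage, hW.fromSpec_preimage_basicOpen]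
      exact hh
    rwa [hW.fromSpec_primeIdealOf] at this
  refine ⟨X.basicOpen h, hW.basicOpen h, hzh, ?_, ?_⟩
  · have hWci : IsClosedImmersion (u ∣_ W) := by
      haveI : IsAffine W.toScheme := hW
      haveI : IsAffine (u ⁻¹ᵁ W).toScheme := by
        show IsAffineOpen (u ⁻¹ᵁ W)
        rw [hpre]; exact hV
      refine IsClosedImmersion.of_surjective_of_isAffine _ ?_
      have key : ∀ (O : X.Opens) (hO : O = W), Function.Surjective (u.app O) := by
        rintro _ rfl a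
        let a' : Γ(S, V) := S.presheaf.map (homOfLE hpre.ge).op a
        refine ⟨f.appLE V W e a', (ConcreteCategory.bijective_of_isIso
          (S.presheaf.map (eqToHom hpre.symm).op)).1 ?_⟩
        exact (retraction_apply hu e hpre.ge a')
      rw [morphismRestrict_appTop]
      intro y
      obtain ⟨x, hx⟩ := (ConcreteCategory.bijective_of_isIso (S.presheaf.map (eqToHom (image_morphismRestrict_preimage u W ⊤)).op)).2 y
      obtain ⟨w, hw⟩ := key _ (Scheme.Opens.ι_image_top W) x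
      exact ⟨w, by rw [CommRingCat.comp_apply]; exact (congrArg _ hw).trans hx⟩
    have h2 : IsClosedImmersion ((u ∣_ W) ∣_ (W.ι ⁻¹ᵁ X.basicOpen h)) := IsZariskiLocalAtTarget.restrict hWci _
    rw [MorphismProperty.arrow_mk_iso_iff @IsClosedImmersion (morphismRestrictRestrict u W _)] at h2
    have e2 : W.ι ''ᵁ (W.ι ⁻¹ᵁ X.basicOpen h) = X.basicOpen h := by
      rw [Scheme.Hom.image_preimage_eq_opensRange_inf, Scheme.Opens.opensRange_ι]
      exact inf_eq_right.2 (X.basicOpen_le h)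
    rwa [MorphismProperty.arrow_mk_iso_iff @IsClosedImmersion (morphismRestrictEq u e2)] at h2
  · let res := (X.presheaf.map (homOfLE (X.basicOpen_le h)).op).hom
    have hflat : res.Flat := by
      letI : Algebra Γ(X, W) Γ(X, X.basicOpen h) := res.toAlgebra
      haveI : IsLocalization.Away h Γ(X, X.basicOpen h) := hW.isLocalization_basicOpen h
      exact IsLocalization.flat Γ(X, X.basicOpen h) (Submonoid.powers h)
    refine ⟨(List.ofFn Y).map res, seq_map res hflat _ ?_, ?_⟩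
    · show CAlgX.IsQuasiRegular (List.ofFn Y).get
      have := isQuasiRegular_cast (List.length_ofFn (f := Y)) _ (Groth.Agent.S5802.result _ _ Y hreg)
      convert this using 1
      funext i
      simp [List.get_eq_getElem]
      rfl
    · have hpa : IsAffineOpen (u ⁻¹ᵁ W) := by rw [hpre]; exact hV
      rw [ker_app_basicOpen u hW hpa h, ← hker, ← Ideal.map_ofList]
      have hspan : Ideal.ofList (List.ofFn Y) = Ideal.span (Set.range Y) := by
        rw [Ideal.ofList]; congr 1; ext; simp [List.mem_ofFn]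
      rw [hspan]
      refine le_antisymm (Ideal.map_le_iff_le_comap.2 fun b hb => ?_)
        (Ideal.map_mono (Ideal.span_le.2 (by rintro _ ⟨i, rfl⟩; exact hYσ i)))
      have hu' : IsUnit (res h) := RingedSpace.isUnit_res_basicOpen X.toRingedSpace h
      rw [Ideal.mem_comap, ← Ideal.unit_mul_mem_iff_mem _ hu', ← map_mul]
      exact Ideal.mem_map_of_mem res (hhY b hb)

/-- A morphism is smooth at the points of a section which is a quasi-regular immersion. -/
theorem mem_smoothLocus_of_qData (f : X ⟶ S) [LocallyOfFinitePresentation f] (u : S ⟶ X) (hu : u ≫ f = 𝟙 S)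
    (z : S) (U : X.Opens) (hU : IsAffineOpen U) (hzU : u z ∈ U) (h : QData u U) : u z ∈ f.smoothLocus := by
  classical
  obtain ⟨V₀, hV₀, hzV₀, -⟩ :=
    Opens.isBasis_iff_nbhd.1 S.isBasis_affineOpens (show z ∈ (⊤ : S.Opens) from trivial)
  have hfz : f (u z) = z := by rw [← Scheme.Hom.comp_apply, hu]; rfl
  obtain ⟨b, hb, hzb⟩ := hU.exists_basicOpen_le
    (⟨u z, hzU, show f (u z) ∈ V₀ from hfz.symm ▸ hzV₀⟩ : (U ⊓ f ⁻¹ᵁ V₀ : X.Opens)) hzU
  let W₀ := X.basicOpen b
  have e₀ : W₀ ≤ f ⁻¹ᵁ V₀ := hb.trans inf_le_right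
  have hW₀ : IsAffineOpen W₀ := hU.basicOpen b
  obtain ⟨g, hzg, hpre⟩ := exists_adapted hu hV₀ (W₀ := W₀) hzb e₀
  let V := S.basicOpen g
  let W := X.basicOpen (f.appLE V₀ W₀ e₀ g)
  have hV : IsAffineOpen V := hV₀.basicOpen g
  have hW : IsAffineOpen W := hW₀.basicOpen _
  have e : W ≤ f ⁻¹ᵁ V := (Scheme.basicOpen_appLE f W₀ V₀ e₀ g).le.trans inf_le_right
  obtain ⟨b', hb'⟩ := hU.basicOpen_basicOpen_is_basicOpen b (f.appLE V₀ W₀ e₀ g)
  obtain ⟨-, rs, hrs, hker⟩ := h.basicOpen hU b' W hb'.symm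
  have hzW : u z ∈ W := (SetLike.ext_iff.1 hpre z).2 hzg
  letI : Algebra Γ(S, V) Γ(X, W) := (f.appLE V W e).hom.toAlgebra
  haveI : Algebra.FinitePresentation Γ(S, V) Γ(X, W) := f.finitePresentation_appLE hV hW e
  let σ : Γ(X, W) →ₐ[Γ(S, V)] Γ(S, V) :=
    { (u.appLE W V hpre.ge).hom with commutes' := fun a => retraction_apply hu e hpre.ge a }
  have hI : RingHom.ker σ.toRingHom = Ideal.span (Set.range rs.get) := by
    rw [show RingHom.ker σ.toRingHom = RingHom.ker (u.app W).hom from ker_appLE_of_eq u hpre, hker,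
      Ideal.ofList, Set.range_list_get]
  obtain ⟨h', hh', hsm⟩ := exists_smooth σ rs.get hrs hI
  rw [← Algebra.basicOpen_subset_smoothLocus_iff_smooth] at hsm
  rw [Scheme.Hom.mem_smoothLocus, formallySmooth_stalkMap_iff V hV W hW e hzW]
  refine hsm ?_
  have hzh : u z ∈ X.basicOpen h' := by
    have : z ∈ S.basicOpen (u.appLE W V hpre.ge h') := by
      rw [show u.appLE W V hpre.ge h' = 1 from hh', Scheme.basicOpen_of_isUnit _ isUnit_one]
      exact hzg
    rw [Scheme.basicOpen_appLE] at this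
    exact this.2
  have : hW.primeIdealOf ⟨u z, hzW⟩ ∈ hW.fromSpec ⁻¹ᵁ X.basicOpen h' := by
    rw [Scheme.Hom.mem_preimage, hW.fromSpec_primeIdealOf]; exact hzh
  rwa [hW.fromSpec_preimage_basicOpen] at this

/-- Smoothness along a section and quasi-regularity at a point. -/
theorem smooth_iff_at (f : X ⟶ S) [LocallyOfFinitePresentation f] (u : S ⟶ X) (hu : u ≫ f = 𝟙 S) (z : S) :
    u z ∈ f.smoothLocus ↔ RegImm.IsRegularImmersionAt .quasi u z := by
  constructor
  · intro hz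
    obtain ⟨U, hU, hzU, hci, rs, hrs, hker⟩ := qData_of_smooth f u hu z hz
    exact ⟨⟨U, hU⟩, hzU, hci, rs, hrs, hker⟩
  · rintro ⟨⟨U, hU⟩, hzU, hci, rs, hrs, hker⟩
    exact mem_smoothLocus_of_qData f u hu z U hU hzU ⟨hci, rs, hrs, hker⟩

theorem isImmersion_section {f : X ⟶ S} {u : S ⟶ X} (hu : u ≫ f = 𝟙 S) : IsImmersion u := by
  haveI : IsImmersion (u ≫ f) := by rw [hu]; infer_instance
  exact IsImmersion.of_comp u f

/-- Quasi-regularity at a point is local on the source of an immersion. -/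
theorem regularAt_ι_comp_iff (i : Z ⟶ X) [IsImmersion i] (V : Z.Opens) (z : V.toScheme) :
    RegImm.IsRegularImmersionAt .quasi (V.ι ≫ i) z ↔ RegImm.IsRegularImmersionAt .quasi i z.1 := by
  obtain ⟨O, hO, hOV⟩ := i.isEmbedding.isInducing.isOpen_iff.1 V.2
  have hzO : i z.1 ∈ O := by
    have : z.1 ∈ (i : Z → X) ⁻¹' O := by rw [hOV]; exact z.2
    exact this
  have hshrink : ∀ (U : X.affineOpens), i z.1 ∈ U.1 → ∃ b : Γ(X, U.1), i z.1 ∈ X.basicOpen b ∧
      i ⁻¹ᵁ X.basicOpen b ≤ V := by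
    intro U hzU
    obtain ⟨b, hb, hzb⟩ := U.2.exists_basicOpen_le (⟨i z.1, hzU, hzO⟩ : (U.1 ⊓ ⟨O, hO⟩ : X.Opens)) hzU
    refine ⟨b, hzb, fun y hy => ?_⟩
    have : y ∈ (i : Z → X) ⁻¹' O := (hb hy).2
    rwa [hOV] at this
  constructor
  · rintro ⟨U, hzU, hci, rs, hrs, hker⟩
    obtain ⟨b, hzb, hbV⟩ := hshrink U hzU
    obtain ⟨h1, h2⟩ := (qData_ι_comp_iff i V _ hbV).1
      ((show QData (V.ι ≫ i) U.1 from ⟨hci, rs, hrs, hker⟩).basicOpen U.2 b _ rfl)
    exact ⟨⟨X.basicOpen b, U.2.basicOpen b⟩, hzb, h1, h2⟩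
  · rintro ⟨U, hzU, hci, rs, hrs, hker⟩
    obtain ⟨b, hzb, hbV⟩ := hshrink U hzU
    obtain ⟨h1, h2⟩ := (qData_ι_comp_iff i V _ hbV).2
      ((show QData i U.1 from ⟨hci, rs, hrs, hker⟩).basicOpen U.2 b _ rfl)
    exact ⟨⟨X.basicOpen b, U.2.basicOpen b⟩, hzb, h1, h2⟩

end GrothLib.SecQReg10
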